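import Cfsg.Agent.H7.Ut
import Cfsg.Agent.H2.NPC

/-!
# Groups with a nilpotent maximal subgroup (Deskins, Janko, Thompson).
-/

namespace H7
open Subgroup Cfsg
open H2 (IsSylowIn)
open scoped commutatorElement H2

universe u

section
variable {G : Type*} [Group G] [Finite G]
variable {H K L N A B C E M D P Q R S T U V W X Y Z : Subgroup G}

/-- the solvable residual -/
theorem exists_perfect_res (H : Subgroup G) :
    ∃ R ≤ H, nrm H ≤ nrm R ∧ ⁅R, R⁆ = R ∧ (Group.IsSolvable R → Group.IsSolvable H) := by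
  obtain ⟨R, ⟨h1, h2, h3⟩, hm⟩ := (wellFounded_lt (α := Subgroup G)).has_min
    {R | R ≤ H ∧ nrm H ≤ nrm R ∧ (Group.IsSolvable R → Group.IsSolvable H)} ⟨H, le_rfl, le_rfl, id⟩
  refine ⟨R, h1, h2, ?_, h3⟩
  have l : ⁅R, R⁆ ≤ R := comm_le_of_le le_rfl le_rfl
  by_contra hne
  exact hm ⁅R, R⁆ ⟨l.trans h1, nrm_commutator h2 h2, fun h => h3 (solv_of_comm_solv h)⟩ (lt_of_le_of_ne l hne)

theorem npc_of_class_two {p : ℕ} [Fact p.Prime] (hM : Group.IsNilpotent M)
    (hn : ∀ X ≤ M, X ≠ ⊥ → M ≤ nrm X → nrm X = M) (hp : Op p M ≠ ⊥)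
    (h2 : ⁅Op p M, Op p M⁆ ≤ cen (Op p M)) : NPC p (⊤ : Subgroup G) := by
  set P := Op p M with hP
  have pP : IsPGroup p P := isPGroup_Op p M
  have PM : P ≤ M := Opi_le _ _
  have nP : nrm P = M := hn P PM hp (le_nrm_Opi _ _)
  have sP : IsSylowIn p P ⊤ := syl_of_nrm le_top (by rw [top_inf_eq, nP]; exact nilp_sylow_Op hM)
  have Zne : P ⊓ cen P ≠ ⊥ := pgroup_inf_cen_ne_bot' pP pP (le_nrm_self P) hp
  have nZ : nrm (P ⊓ cen P : Subgroup G) = M :=
    hn _ (inf_le_left.trans PM) Zne (nrm_center (le_nrm_Opi _ _))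
  have inP : ∀ Y ≤ M, IsPGroup p Y → Y ≤ P := fun Y h1 h2 => nilp_le_Op hM h1 h2
  have key : ∀ g : G, P ⊓ cen P ≤ cj g P → g ∈ M := by
    intro g hg
    have c1 : cj g (P ⊓ cen P) ≤ P := by
      refine inP _ ?_ (isPGroup_cj.2 pP.to_inf_left)
      rw [← nZ]
      refine le_trans ?_ (cen_le_nrm _)
      rw [cj_inf, cj_cen]
      exact inf_le_right.trans (cen_anti hg)
    have dP : ⁅P, P⁆ ≤ P ⊓ cen P := le_inf (comm_le_of_le le_rfl le_rfl) h2
    have n1 : M ≤ nrm (P ⊓ cj g P : Subgroup G) := by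
      rw [← nilp_Opi_sup hM {p}]
      refine sup_le (le_nrm_of_comm_le' inf_le_left (dP.trans (le_inf inf_le_left hg))) ?_
      exact le_nrm_of_le_cen ((Op'_le_cen p M).trans (cen_anti inf_le_left))
    have n2 : cj g P ≤ nrm (P ⊓ cj g P : Subgroup G) := by
      refine le_nrm_of_comm_le' inf_le_right ?_
      rw [← cj_commutator]
      exact le_inf ((cj_mono g dP).trans c1) (cj_mono g (dP.trans inf_le_left))
    rw [hn _ (inf_le_left.trans PM) (fun e => Zne (eq_bot_of_le (le_inf inf_le_left hg) e)) n1] at n2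
    rw [← nP]
    exact mem_nrm_of_cj_le (inP _ n2 (isPGroup_cj.2 pP))
  refine npc_top_iff.1 (H2.hasNPC_of_controls_fusion sP.toSylowTop fun x hx g hg => ?_)
  change x ∈ P at hx
  change _ ∈ P at hg
  change ∃ u ∈ P, _
  have z1 : P ⊓ cen P ≤ cen1 x := inf_le_right.trans (cen_le_cen1 hx)
  have z2 : cj g⁻¹ (P ⊓ cen P) ≤ cen1 x := by
    rw [cj_le_iff, inv_inv, cj_cen1]; exact inf_le_right.trans (cen_le_cen1 hg)
  obtain ⟨R, sR, hR⟩ := H2.exists_isSylowIn_ge pP.to_inf_left z1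
  obtain ⟨c, hc, hc'⟩ := sR.exists_cj_le (isPGroup_cj.2 pP.to_inf_left) z2
  obtain ⟨k, -, hk⟩ := sP.exists_cj_le sR.isPGroup le_top
  have hk' : R ≤ P := by
    have := key k⁻¹ (hR.trans (cj_le_iff.1 hk))
    have e : cj k⁻¹ P = P := cj_of_mem_nrm (nP ▸ this)
    exact (cj_le_iff.1 hk).trans e.le
  have m : g * c⁻¹ ∈ M := by
    refine key _ ?_
    rw [le_cj_iff, mul_inv_rev, inv_inv, cj_mul]
    exact hc'.trans hk'
  rw [← nilp_Opi_sup hM {p}] at m
  obtain ⟨a, ha, b, hb, e⟩ := (mem_sup_nrm' (le_nrm_of_le_cen (Op'_le_cen p M))).1 m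
  refine ⟨a, ha, ?_⟩
  have e1 : b * x * b⁻¹ = x := conj_eq_of_mem_cen (Op'_le_cen p M hb) hx
  have e2 : c⁻¹ * x * c = x := by rw [mul_assoc, ← mem_cen1.1 hc, inv_mul_cancel_left]
  have e3 : g = a * b * c := by rw [e, inv_mul_cancel_right]
  have e4 : c * x * c⁻¹ = x := by rw [mem_cen1.1 hc, mul_inv_cancel_right]
  rw [e3]
  calc a * x * a⁻¹ = a * (b * (c * x * c⁻¹) * b⁻¹) * a⁻¹ := by rw [e4, e1]
    _ = _ := by group

end

/-- **Deskins–Janko–Thompson**: a finite group with a nilpotent maximal subgroup whose Sylow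
`2`-subgroup has class at most two is solvable. -/
theorem solv_of_nilp_max {G : Type u} [Group G] [Finite G] (M : Subgroup G)
    (hmax : ∀ L, M ≤ L → L = M ∨ L = ⊤) (hM : Group.IsNilpotent M)
    (h2 : ⁅Op 2 M, Op 2 M⁆ ≤ cen (Op 2 M)) : Group.IsSolvable (⊤ : Subgroup G) := by
  induction' hn : Nat.card G using Nat.strong_induction_on with n ih generalizing G
  by_cases hc : ∃ N ≤ M, N ≠ ⊥ ∧ nrm N = ⊤
  · obtain ⟨N, hN, hne, nN⟩ := hc
    have t : ∀ L : Subgroup G, L ≤ nrm N := fun L => nN ▸ le_top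
    have e : im (qm N) ⊤ = ⊤ := top_le_iff.1 ((im_qm_dom N).ge.trans (im_mono _ le_top))
    have lt : Nat.card (Quo N) < n := by
      rw [← hn, ← card_top, ← card_top (G := G), ← e]
      exact card_im_lt (t _) (by rw [kr_qm, top_inf_eq]; exact hne)
    have e2 : Op 2 (im (qm N) M) = im (qm N) (Op 2 M) :=
      Op_eq_of_sylow (syl_im (nilp_sylow_Op hM) (t _) _) (im_le_nrm _ (le_nrm_Opi _ _))
    have := ih _ lt (im (qm N) M) (fun L hL => ?_) (nilp_im _ hM) (by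
      rw [e2, ← im_commutator (t _) (t _)]; exact im_le_cen _ h2) rfl
    · refine solv_of_im (f := qm N) (t _) (e ▸ this) ?_
      rw [kr_qm, top_inf_eq]; exact solv_of_le hN (solv_of_nilp hM)
    · have e3 : im (qm N) (pre (qm N) L) = L := im_pre_of_le (A := ⊤) (e ▸ le_top)
      rcases hmax (pre (qm N) L) ((im_le_iff (t _)).1 hL) with h | h
      · left; rw [← e3, h]
      · right; rw [← e3, h, e]
  push_neg at hc
  have hn' : ∀ X ≤ M, X ≠ ⊥ → M ≤ nrm X → nrm X = M := fun X h1 h2 h3 =>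
    (hmax _ h3).resolve_right (hc X h1 h2)
  have npc : ∀ p, p.Prime → p ∣ ord M → ∀ R : Subgroup G, ⁅R, R⁆ = R → ¬ p ∣ ord R := by
    intro p pp hd R hR
    haveI := Fact.mk pp
    have ne : Op p M ≠ ⊥ := syl_ne_bot (nilp_sylow_Op hM) hd
    have : NPC p (⊤ : Subgroup G) := by
      by_cases p2 : p = 2
      · subst p2; exact npc_of_class_two hM hn' ne h2
      have nP : nrm (Op p M) = M := hn' _ (Opi_le _ _) ne (le_nrm_Opi _ _)
      have sP : IsSylowIn p (Op p M) ⊤ :=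
        syl_of_nrm le_top (by rw [top_inf_eq, nP]; exact nilp_sylow_Op hM)
      refine npc_iff.1 (H2.glauberman_thompson p2 (Or.inl rfl) sP (npc_iff.2 ?_))
      rw [top_inf_eq, hn' _ ((H2.ZJ_le _).trans (Opi_le _ _))
        (H2.ZJ_ne_bot (Or.inl rfl) (isPGroup_Op p M) ne) (H2.nrm_ZJ (le_nrm_Opi _ _))]
      exact npc_of_nilp hM
    have := npc_iff_coprime.1 (this.of_le (le_top : R ≤ ⊤))
    rw [pRes_of_perfect hR] at this
    exact coprime_iff_not_dvd.1 this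
  obtain ⟨R, -, nR, pR, hR⟩ := exists_perfect_res (⊤ : Subgroup G)
  by_cases hb : R = ⊥
  · exact hR (hb ▸ solv_bot)
  have co : (ord M).Coprime (ord R) :=
    Nat.coprime_of_dvd fun p pp h1 => npc p pp h1 R pR
  have cp : Cop M R := ⟨le_top.trans ((le_nrm_self ⊤).trans nR), co, Or.inl (solv_of_nilp hM)⟩
  obtain ⟨q, qq, hq⟩ := exists_prime_dvd hb
  haveI := Fact.mk qq
  obtain ⟨Q, sQ, nQ⟩ := cp.exists_syl q
  rcases hmax (M ⊔ Q) le_sup_left with h | h
  · refine absurd ?_ (syl_ne_bot sQ hq)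
    exact eq_bot_of_le (le_inf (le_sup_right.trans h.le) sQ.le) cp.inf_eq_bot
  · rw [← h]; exact solv_sup nQ (solv_of_nilp hM) (solv_of_isPGroup sQ.isPGroup)

theorem isSolvable_of_nilp_coatom {G : Type*} [Group G] [Finite G] {M : Subgroup G} (hmax : IsCoatom M)
    (hM : Group.IsNilpotent M) (h2 : ⁅Op 2 M, Op 2 M⁆ ≤ cen (Op 2 M)) : Group.IsSolvable G := by
  have := solv_of_nilp_max M (fun L hL => (hL.eq_or_lt.imp Eq.symm (hmax.2 L))) hM h2
  exact Group.isSolvable_of_surjective (f := (⊤ : Subgroup G).subtype) fun x => ⟨⟨x, trivial⟩, rfl⟩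

end H7
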