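import Cfsg.Agent.H7.S4
import Cfsg.Agent.H1.LS4

/-!
# `S₃`-free groups acting on elementary abelian `2`-groups; primitive pairs.
-/

namespace H7
open Subgroup Cfsg
open H2 (IsSylowIn pRes MX)
open H1 (ncl)
open scoped commutatorElement H2

universe u
variable {G G' : Type u} [Group G] [Group G']
variable {H K L N A B C E F M D O P Q R S T U V W X Y Z : Subgroup G} {f : D →* G'}
variable {p q r k n m : ℕ} {π ρ : Set ℕ} {a b c d e g h u v x y z t : G}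

/-- `S₃`-free -/
def F3 (H : Subgroup G) : Prop := ¬ Involves (Equiv.Perm (Fin 3)) H

theorem F3.of_le (h : F3 H) (hK : K ≤ H) : F3 K := fun k => h (H2.inv_trans k (H2.inv_of_le hK))

theorem F3.im (h : F3 H) (hH : H ≤ D) : F3 (im f H) := fun k => h (H2.inv_trans k (H2.inv_im f hH))

variable [Finite G]

theorem exists_s3hom (hW : ord W ≤ 4) : ∃ ψ : ↥(nrm W) →* Equiv.Perm (Fin 3), kr ψ = cen W := by
  classical
  haveI := Fintype.ofFinite W
  obtain ⟨ι⟩ : Nonempty ({w : W // w ≠ 1} ↪ Fin 3) := Function.Embedding.nonempty_of_card_le (by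
    rw [Fintype.card_subtype_compl, Fintype.card_subtype_eq, ← Nat.card_eq_fintype_card, Fintype.card_fin]; omega)
  let φ : MulAut W →* Equiv.Perm {w : W // w ≠ 1} := MonoidHom.mk' (fun α => Equiv.Perm.subtypePerm α.toEquiv fun w => by simp)
    fun α β => Equiv.ext fun _ => rfl
  have hφ : Function.Injective φ := (injective_iff_map_eq_one φ).2 fun α h => MulEquiv.ext fun w => by
    by_cases c : w = 1
    · simp [c]
    exact congrArg Subtype.val (Equiv.congr_fun h ⟨w, c⟩)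
  refine ⟨((Equiv.Perm.viaEmbeddingHom ι).comp φ).comp (act W), ?_⟩
  rw [← kr_act]; ext x
  rw [mem_kr, mem_kr]
  refine and_congr_right fun hx => ?_
  rw [ev_eq hx, ev_eq hx]
  exact (((Equiv.Perm.viaEmbeddingHom_injective ι).comp hφ).eq_iff' (by simp))

theorem F3.cen_four (h : F3 (A ⊔ B)) (hA : IsPGroup 2 A) (hB : IsPGroup 2 B) (hn : A ⊔ B ≤ nrm W) (hW : ord W ≤ 4) :
    pRes 2 (A ⊔ B) ≤ cen W := by
  obtain ⟨ψ, hψ⟩ := exists_s3hom hW
  haveI : Fact (Nat.Prime 3) := ⟨Nat.prime_three⟩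
  rw [← hψ, ← im_eq_bot_iff ((H2.pRes_le _).trans hn), im_pRes hn, pRes_eq_bot_iff]
  have s6 : Nat.card (Equiv.Perm (Fin 3)) = 6 := by rw [Nat.card_perm, Nat.card_fin]; rfl
  have c : ord (H7.im ψ (A ⊔ B)) ∣ 6 := s6 ▸ card_subgroup_dvd_card (H7.im ψ (A ⊔ B))
  have : ∀ n, n ∣ 6 → n = 1 ∨ n = 2 ∨ n = 3 ∨ n = 6 := fun n k => by
    have := Nat.le_of_dvd (by decide) k
    interval_cases n <;> simp_all
  rcases this _ c with e | e | e | e
  · exact IsPGroup.of_card (n := 0) e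
  · exact IsPGroup.of_card (n := 1) e
  · have k : ∀ C ≤ A ⊔ B, IsPGroup 2 C → H7.im ψ C = ⊥ := fun C l pC => eq_bot_of_isPGroup_of_coprime (p := 2)
      (isPGroup_im _ pC) (Nat.Coprime.coprime_dvd_left (e ▸ card_dvd_of_le (im_mono _ l)) (by decide))
    rw [im_sup (le_sup_left.trans hn) (le_sup_right.trans hn), k A le_sup_left hA, k B le_sup_right hB, bot_sup_eq]
    exact IsPGroup.of_bot
  have e' : H7.im ψ (A ⊔ B) = ⊤ := eq_top_of_card_eq _ (e.trans s6.symm)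
  exact (h (H2.inv_trans H2.inv_top (e' ▸ H2.inv_im ψ hn))).elim

theorem F3.comm_four (h : F3 (A ⊔ B)) (hA : IsPGroup 2 A) (hB : IsPGroup 2 B) (hn : A ⊔ B ≤ nrm X) (hY : A ⊔ B ≤ nrm Y)
    (hX : X ≤ nrm Y) (hW : Y.relIndex X ≤ 4) : ⁅X, pRes 2 (A ⊔ B)⁆ ≤ Y := by
  rw [← im_qm_le_cen hX ((H2.pRes_le _).trans hY), im_pRes hY]
  refine le_cen_symm ?_
  have e := im_sup (f := qm Y) (le_sup_left.trans hY) (le_sup_right.trans hY)
  rw [e]
  exact F3.cen_four (e ▸ h.im hY) (isPGroup_im _ hA) (isPGroup_im _ hB) (e ▸ im_le_nrm _ hn) (by rwa [card_im_qm hX])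

theorem F3.tv (h : F3 (A ⊔ B)) (hA : IsPGroup 2 A) (hB : IsPGroup 2 B) (hX : IsPGroup 2 X) (hn : A ⊔ B ≤ nrm X)
    (hc : X ≤ nrm (X ⊓ cen (A ⊔ B))) (hW : (cen (A ⊔ B)).relIndex X ≤ 4) : pRes 2 (A ⊔ B) ≤ cen X := by
  have k := h.comm_four hA hB hn (nrm_inf hn (nrm_cen (le_nrm_self _))) hc (by rwa [inf_relIndex_left])
  rw [← H2.pRes_pRes]
  exact H1B.pRes_le_cen_of_quad hX ((H2.pRes_le _).trans hn) (k.trans (inf_le_right.trans (cen_anti (H2.pRes_le _))))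

theorem relIndex_cen_sup_le (A B X : Subgroup G) :
    (cen (A ⊔ B)).relIndex X ≤ (cen A).relIndex X * (cen B).relIndex X := by
  rw [cen_sup]; exact relIndex_inf_le

theorem Cop.comm_le_of_hyper [Fact p.Prime] (h : Cop A K) (hA : EA p A)
    (hL : ∀ B ≤ A, B.relIndex A = p → ⁅K ⊓ cen B, A⁆ ≤ L) : ⁅K, A⁆ ≤ L := by
  by_cases c : A = ⊥
  · simp [c]
  let N := ⨆ B : {B : Subgroup G // B ≤ A ∧ B.relIndex A = p}, ⁅K ⊓ cen B.1, A⁆
  have n : ∀ B ≤ A, A ≤ nrm (K ⊓ cen B) := fun B l => nrm_inf h.norm (nrm_cen (hA.le_nrm l))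
  have n1 : A ≤ nrm N := nrm_iSup fun B => nrm_commutator (n _ B.2.1) (le_nrm_self A)
  have n2 : K ⊓ cen A ≤ nrm N := nrm_iSup fun B => nrm_commutator (nrm_inf (inf_le_left.trans (le_nrm_self K))
    (nrm_cen (le_nrm_of_le_cen (inf_le_right.trans (cen_anti B.2.1))))) (le_nrm_of_le_cen inf_le_right)
  have k : K ≤ N ⊔ K ⊓ cen A := h.le_of_hyper hA c fun B l i => (h.right inf_le_left (n B l)).comm_sup_cen.ge.trans
    (sup_le_sup (le_iSup (fun B : {B : Subgroup G // B ≤ A ∧ B.relIndex A = p} => ⁅K ⊓ cen B.1, A⁆) ⟨B, l, i⟩)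
      (inf_le_inf_right _ inf_le_left))
  exact (commutator_mono k le_rfl).trans ((comm_sup_le (le_nrm_self N) n2 (comm_le_left n1)
    ((comm_eq_bot.2 inf_le_right).le.trans bot_le)).trans (iSup_le fun B => hL _ B.2.1 B.2.2))

omit [Finite G] in
theorem conj_comm_inv (h : a ^ 2 = 1) : a * ⁅x, a⁆ * a⁻¹ = ⁅x, a⁆⁻¹ := by
  calc a * ⁅x, a⁆ * a⁻¹ = a * x * a * x⁻¹ * (a ^ 2)⁻¹ := by rw [commutatorElement_def, sq]; group
    _ = a * x * (a ^ 2)⁻¹ * a * x⁻¹ := by rw [h]; group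
    _ = _ := by rw [commutatorElement_def, sq]; group

theorem Cop.exists_inv (h : Cop A K) (hA : EA 2 A) (k : ¬ ⁅K, A⁆ ≤ L) :
    ∃ B ≤ A, B.relIndex A = 2 ∧ ∃ a ∈ A, ∃ y ∈ K ⊓ cen B, y ∉ L ∧ a * y * a⁻¹ = y⁻¹ := by
  by_contra! c
  refine k (h.comm_le_of_hyper hA fun B l i => commutator_le.2 fun x hx a ha => by_contra fun j => c B l i a ha _
    (comm_le_left (nrm_inf h.norm (nrm_cen (hA.le_nrm l))) (commutator_mem_commutator hx ha)) j ?_)
  exact conj_comm_inv (hA.pow ha)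

theorem mem_of_sq (hy : (orderOf y).Coprime 2) (h : y ^ 2 ∈ K) : y ∈ K :=
  (mem_zpowers_pow_iff.2 (Nat.Coprime.symm hy) |> fun k => zpowers_le.2 h k)

/-- an inverted element of odd order lies in `O²(⟨A, A^y⟩)`. -/
theorem mem_pRes_of_inv (ha : a ∈ A) (hy : (orderOf y).Coprime 2) (i : a * y * a⁻¹ = y⁻¹) : y ∈ pRes 2 (A ⊔ cj y A) := by
  refine H2.mem_pRes (mem_of_sq hy ?_) hy
  rw [show y ^ 2 = y * a * y⁻¹ * a⁻¹ by rw [show y * a * y⁻¹ * a⁻¹ = y * (a * y * a⁻¹)⁻¹ by group, i, inv_inv, sq]]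
  exact mul_mem (mem_sup_right (conj_mem_cj.2 ha)) (mem_sup_left (inv_mem ha))

theorem FFS.sq_le (h : FFS 2 V H) (h3 : F3 H) (hA : A ≤ H) (eA : EA 2 A) : ord A ^ 2 ≤ (cen A).relIndex V ∨ A = ⊥ := by
  induction hn : ord A using Nat.strong_induction_on generalizing A with
  | _ n ih =>
  subst hn
  refine or_iff_not_imp_right.2 fun c => ?_
  have co := h.cop hA eA.isPGroup le_rfl (h.nF hA)
  obtain ⟨B, l, i, a, ha, y, hy, y1, iv⟩ := co.exists_inv (L := ⊥) eA fun k =>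
    c (h.eq_bot hA eA.isPGroup (le_cen_symm (comm_eq_bot.1 (le_bot_iff.1 k))))
  have yH := Opi_le _ _ hy.1
  have oy : (orderOf y).Coprime 2 := (coprime_Op' 2 H).coprime_dvd_left (orderOf_dvd_card' hy.1)
  have lD : A ⊔ cj y A ≤ H := sup_le hA (cj_le_of_mem yH hA)
  have cB : A ⊔ cj y A ≤ cen B := sup_le (eA.le_cen.trans (cen_anti l)) (cj_le_of_mem hy.2 (eA.le_cen.trans (cen_anti l)))
  have nU : A ⊔ cj y A ≤ nrm (V ⊓ cen B) := nrm_inf (lD.trans h.n) (nrm_cen (le_nrm_of_le_cen cB))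
  have eU := h.ea.of_le (inf_le_left : V ⊓ cen B ≤ V)
  have k : 2 < (cen A).relIndex (V ⊓ cen B) := not_le.1 fun j => y1 (by
    have j' : (cen (cj y A)).relIndex (V ⊓ cen B) ≤ 2 := by
      rwa [← cj_cen, ← cj_of_mem_nrm (nrm_inf (inf_le_left.trans h.n) (nrm_cen (le_nrm_of_le_cen inf_le_right)) ⟨yH, hy.2⟩), relIndex_cj]
    have t := (h3.of_le lD).tv eA.isPGroup (isPGroup_cj.2 eA.isPGroup) eU.isPGroup nU (eU.le_nrm inf_le_left)
      ((relIndex_cen_sup_le _ _ _).trans (Nat.mul_le_mul j j'))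
    have := pxq (p := 2) (P := B) (Q := zpowers y) (eA.isPGroup.to_le l) (by rwa [card_zpowers_eq])
      (le_cen_symm (zpowers_le.2 hy.2)) h.ea.isPGroup (l.trans (hA.trans h.n)) (zpowers_le.2 (h.n yH))
      (le_cen_symm (zpowers_le.2 (t (mem_pRes_of_inv ha oy iv))))
    exact h.f.le ⟨yH, zpowers_le.1 this⟩)
  obtain ⟨j, hj⟩ := relIndex_pgroup eU.isPGroup (cen A)
  have k4 : 4 ≤ (cen A).relIndex (V ⊓ cen B) := by
    rw [hj] at k ⊢
    exact Nat.pow_le_pow_right (n := 2) (i := 2) (by decide) ((Nat.pow_lt_pow_iff_right (a := 2) (n := 1) (by decide)).1 k)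
  have o := card_of_hyper l i
  have e : (cen A).relIndex (V ⊓ cen B) * (cen B).relIndex V = (cen A).relIndex V := by
    rw [← inf_relIndex_left V (cen B), ← inf_relIndex_left V (cen A), ← inf_relIndex_left (V ⊓ cen B), inf_assoc,
      inf_eq_right.2 (cen_anti l), relIndex_mul_relIndex _ _ _ (inf_le_inf_left _ (cen_anti l)) inf_le_left]
  have b : ord B ^ 2 ≤ (cen B).relIndex V := (ih _ (by have := card_pos' B; omega) (l.trans hA) (eA.of_le l) rfl).elim id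
    fun e => by simpa [e] using Nat.one_le_iff_ne_zero.2 (relIndex_pos _ _).ne'
  rw [← e, o, mul_pow]
  exact Nat.mul_le_mul k4 b

omit [Finite G] in
theorem ea_of_sq (h : ∀ a ∈ A, a ^ 2 = 1) : EA 2 A := by
  have i : ∀ a ∈ A, a⁻¹ = a := fun a ha => inv_eq_of_mul_eq_one_right (by rw [← sq, h a ha])
  refine ea_iff.2 ⟨fun a ha => mem_cen.2 fun b hb => ?_, h⟩
  rw [← i _ (mul_mem hb ha), mul_inv_rev, i a ha, i b hb]

omit [Finite G] in
theorem inv_mul_mem_two (i : B.relIndex A = 2) (ha : a ∈ A) (hb : b ∈ A) (h1 : a ∉ B) (h2 : b ∉ B) : a⁻¹ * b ∈ B :=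
  (mul_mem_iff_of_index_two (H := B.subgroupOf A) i (a := (⟨a, ha⟩ : A)⁻¹) (b := ⟨b, hb⟩)).2
    (iff_of_false (fun k => h1 (by simpa [mem_subgroupOf] using k)) h2)

omit [Finite G] in
theorem le_zp_sup_two (i : B.relIndex A = 2) (ha : a ∈ A) (h1 : a ∉ B) : A ≤ zpowers a ⊔ B := fun b hb => by
  by_cases c : b ∈ B
  · exact mem_sup_right c
  simpa using mul_mem (mem_sup_left (mem_zpowers a)) (mem_sup_right (inv_mul_mem_two i ha hb h1 c))

theorem relIndex_anti (h : H ≤ K) (L : Subgroup G) : K.relIndex L ≤ H.relIndex L :=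
  relIndex_le_of_le_left h (relIndex_pos _ _).ne'

theorem relIndex_mono' (H : Subgroup G) (h : K ≤ L) : H.relIndex K ≤ H.relIndex L :=
  relIndex_le_of_le_right h (relIndex_pos _ _).ne'

theorem relIndex_sup_le_mul (hB : B ≤ nrm Y) (hC : C ≤ nrm Y) (h : C ≤ nrm B) :
    Y.relIndex (B ⊔ C) ≤ Y.relIndex B * Y.relIndex C := by
  rw [← card_im_qm (sup_le hB hC), ← card_im_qm hB, ← card_im_qm hC, im_sup hB hC, sup_comm, mul_comm]
  exact Nat.le_of_dvd (Nat.mul_pos (card_pos' _) (card_pos' _)) (card_sup_dvd (im_le_nrm _ h))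

theorem mx_index_le [Fact p.Prime] (h : MX p T A) (hW : EA p W) (hT : W ≤ T) : (cen A).relIndex W ≤ (cen W).relIndex A := by
  have k := (mx_bo h hW hT).le (inf_le_right : cen W ⊓ A ≤ A)
  rw [jv, jv, inf_eq_left.2 (le_cen_symm (inf_le_left : cen W ⊓ A ≤ cen W)), ← relIndex_mul_card_inf (cen A) W,
    ← relIndex_mul_card_inf (cen W) A, inf_comm W] at k
  refine Nat.le_of_mul_le_mul_right (c := ord (cen W ⊓ A) * ord (cen A ⊓ W)) (by linarith)
    (Nat.mul_pos (card_pos' _) (card_pos' _))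

/-- no "quadratic-size" offenders -/
def F1 (V T : Subgroup G) : Prop := ∀ A ≤ T, (∀ a ∈ A, a ^ 2 ∈ cen V) → (cen V).relIndex A ^ 2 ≤ (cen A).relIndex V

omit [Finite G] in
theorem F1.cj (h : F1 V T) (g : G) : F1 (H2.cj g V) (H2.cj g T) := fun A hA k => by
  have := h (H2.cj g⁻¹ A) (by rwa [cj_le_iff, inv_inv]) fun a ha => by
    have := k _ (mem_cj_inv.1 ha)
    rw [← cj_cen, conj_pow] at this
    exact conj_mem_cj.1 this
  rwa [← relIndex_cj g, ← relIndex_cj g (cen (H2.cj g⁻¹ A)), cj_cen, cj_cen, cj_cj_inv] at this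

omit [Finite G] in
theorem F1.ea (h : F1 V T) (hA : A ≤ T) (e : EA 2 A) : (cen V).relIndex A ^ 2 ≤ (cen A).relIndex V :=
  h A hA fun a ha => e.pow ha ▸ one_mem _

theorem f1_of (hV : EA 2 V) (hn : H ≤ nrm V) (hs : IsPSolvable 2 H) (hO : Omod {2} (cen V) H ≤ cen V) (h3 : F3 H) :
    F1 V H := fun A hA k => by
  obtain ⟨ι, φ, F⟩ := exists_fth V
  have n := hA.trans hn
  have e : EA 2 (im φ A) := ea_of_sq fun x hx => by
    obtain ⟨a, ha, rfl⟩ := (mem_im_of_le n).1 hx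
    rw [← ev_pow (n ha), ev_eq_one_iff (pow_mem (n ha) 2), F.ker]; exact k a ha
  have e1 : ord (im φ A) = (cen V).relIndex A := by rw [card_im n, F.ker]
  have e2 : (cen (im φ A)).relIndex (im ι V) = (cen A).relIndex V := by
    have a := relIndex_mul_card_inf (cen (im φ A)) (im ι V)
    have b := relIndex_mul_card_inf (cen A) V
    rw [inf_comm] at a b
    rw [F.inf_cen n, F.card le_rfl, F.card inf_le_left, ← b] at a
    exact Nat.eq_of_mul_eq_mul_right (card_pos' _) a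
  rw [← e1, ← e2]
  exact ((F.ffs hV hn hs hO le_rfl (le_nrm_self H)).sq_le (h3.im hn) (im_mono _ hA) e).elim id fun c => by
    simpa [c] using Nat.one_le_iff_ne_zero.2 (relIndex_pos _ _).ne'

theorem F1.mx (h : F1 V T) (hV : EA 2 V) (hT : V ≤ T) (hA : MX 2 T A) : A ≤ cen V := by
  have := (h.ea hA.1 hA.2.1).trans (mx_index_le hA hV hT)
  have := relIndex_pos (cen V) A
  exact relIndex_eq_one.1 (by nlinarith)

theorem le_Op_of_comm [Fact p.Prime] (hs : IsPSolvable p P) (hA : A ≤ P) (pA : IsPGroup p A)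
    (h : ⁅Omod {p}ᶜ (Op p P) P, A⁆ ≤ Op p P) : A ≤ Op p P := by
  have n := le_nrm_Opi {p} P
  rw [← im_qm_le_cen ((Omod_le _ _ _).trans n) (hA.trans n), im_qm_Omod _ n] at h
  exact (im_qm_eq_bot (hA.trans n)).1 (eq_bot_of_isPGroup_of_coprime (isPGroup_im _ pA) ((coprime_Op' p _).coprime_dvd_left
    (card_dvd_of_le ((le_inf (im_mono _ hA) (le_cen_symm h)).trans (ps_chP' (ps_im hs n) (Opi_im_qm _ P))))))

theorem exists_dh (hA : A ≤ P) (eA : EA 2 A) (hL : L ≤ P) (hQ : Op 2 P ≤ L) (h : ¬ ⁅Omod {2}ᶜ (Op 2 P) P, A⁆ ≤ L) :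
    ∃ B ≤ A, B.relIndex A = 2 ∧ A ⊓ Op 2 P ≤ B ∧ ∃ Y ≤ P ⊓ nrm (B ⊔ Op 2 P), A ≤ nrm Y ∧ ¬ Y ≤ L ∧
      ∀ z ∈ Y, ∃ k ∈ pRes 2 (A ⊔ cj z A), k⁻¹ * z ∈ Op 2 P := by
  have n := le_nrm_Opi {2} P
  have nA := hA.trans n
  have lO := Omod_le {2}ᶜ (Op 2 P) P
  have eB := eA.im (qm (Op 2 P))
  have co : Cop (im (qm (Op 2 P)) A) (Op' 2 (im (qm (Op 2 P)) P)) :=
    cop_of_pgroup eB.isPGroup (coprime_Op' 2 _) ((im_mono _ hA).trans (le_nrm_Opi _ _))
  obtain ⟨B, l, i, a, ha, y, hy, y1, iv⟩ := co.exists_inv (L := im (qm (Op 2 P)) L) eB fun k => h (by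
    rw [show Op' 2 (im (qm (Op 2 P)) P) = _ from (im_qm_Omod _ n).symm, ← im_commutator (lO.trans n) nA,
      im_qm_le ((comm_le_of_le lO hA).trans n) (hL.trans n), sup_eq_left.2 hQ] at k
    exact k)
  have oy : (orderOf y).Coprime 2 := (coprime_Op' 2 _).coprime_dvd_left (orderOf_dvd_card' hy.1)
  have zP : zpowers y ≤ im (qm (Op 2 P)) P := zpowers_le.2 (Opi_le _ _ hy.1)
  have aB : a ∉ B := fun c => y1 (mem_of_sq oy (by
    rw [sq, eq_inv_iff_mul_eq_one.1 (show y = y⁻¹ by rw [← iv, mem_cen.1 hy.2 a c]; group)]; simp))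
  have e : pre (qm (Op 2 P)) B = A ⊓ pre (qm (Op 2 P)) B ⊔ Op 2 P := by
    have := pre_im (f := qm (Op 2 P)) ((inf_le_left : A ⊓ pre (qm (Op 2 P)) B ≤ A).trans nA)
    rwa [im_inf_pre, inf_eq_right.2 l, kr_qm] at this
  have yP : pre (qm (Op 2 P)) (zpowers y) ≤ P := (pre_mono _ zP).trans (pre_im_of_le n (by rw [kr_qm]; exact Opi_le _ _)).le
  have nz : im (qm (Op 2 P)) A ≤ nrm (zpowers y) := (le_zp_sup_two i ha aB).trans (sup_le (zpowers_le.2
    (mem_nrm_of_cj_le (by rw [cj_zpowers, iv]; simp))) (le_nrm_of_le_cen (le_cen_symm (zpowers_le.2 hy.2))))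
  refine ⟨A ⊓ pre (qm (Op 2 P)) B, inf_le_left, by rw [inf_relIndex_left, relIndex_pre nA, i],
    inf_le_inf_left _ ((kr_qm _).ge.trans (kr_le_pre _ _)), pre (qm (Op 2 P)) (zpowers y), le_inf yP
    (e ▸ pre_le_nrm_pre (le_nrm_of_le_cen (zpowers_le.2 hy.2))), le_nrm_pre nA nz, fun k => y1 ?_, fun z hz => ?_⟩
  · exact im_mono _ k ((im_pre_of_le zP).ge (mem_zpowers y))
  have zn := n (yP hz)
  obtain ⟨m, hm⟩ := mem_zpowers_iff.1 (mem_pre.1 hz).2
  have := mem_pRes_of_inv (y := ev (qm (Op 2 P)) z) ha (oy.coprime_dvd_left (orderOf_dvd_of_mem_zpowers ⟨m, hm⟩))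
    (by rw [← hm, ← conj_zpow, iv, inv_zpow])
  have nD : A ⊔ cj z A ≤ nrm (Op 2 P) := sup_le nA (cj_le_of_mem zn nA)
  rw [← im_cj zn, ← im_sup nA (le_sup_right.trans nD), ← im_pRes nD] at this
  obtain ⟨k, hk, e⟩ := (mem_im_of_le ((H2.pRes_le _).trans nD)).1 this
  exact ⟨k, hk, kr_qm (Op 2 P) ▸ (ev_eq_iff (nD (H2.pRes_le _ hk)) zn).1 e⟩

end H7
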